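import Cfsg.Agent.Lib.TIModular.Trace

/-!
# The dimension of a faithful irreducible representation with a cyclic TI Sylow subgroup
-/

set_option autoImplicit false
set_option linter.style.haveILetI false
set_option linter.unusedSectionVars false

noncomputable section

namespace CfsgLib.TIModular

open Finset

universe u v w

variable {G : Type u} [Group G] [Finite G] {p : ℕ} [hp : Fact p.Prime] (P : Sylow p G)
  {F : Type v} [Field F] [CharP F p] {V : Type w} [AddCommGroup V] [Module F V]

/-- The conjugation map of the normaliser. -/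
def autP : Subgroup.normalizer ((P : Subgroup G) : Set G) →* MulAut (P : Subgroup G) :=
  (P : Subgroup G).normalizerMonoidHom

theorem coe_autP (m : Subgroup.normalizer ((P : Subgroup G) : Set G)) (y : (P : Subgroup G)) :
    (autP P m y : G) = (m : G) * y * (m : G)⁻¹ := rfl

theorem card_conj_le (hcyc : IsCyclic P) {n : ℕ} (hn : 0 < n) (hPn : Nat.card P = p ^ n) :
    Nat.card (autP P).range ≤ p - 1 := by
  haveI : IsCyclic (P : Subgroup G) := hcyc
  letI : CommGroup (P : Subgroup G) := IsCyclic.commGroup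
  have hker : (P : Subgroup G).subgroupOf (Subgroup.normalizer ((P : Subgroup G) : Set G)) ≤
      (autP P).ker := by
    intro m hm
    refine MonoidHom.mem_ker.2 (MulEquiv.ext fun y => Subtype.ext ?_)
    have h := mul_comm (⟨(m : G), Subgroup.mem_subgroupOf.1 hm⟩ : (P : Subgroup G)) y
    have h' : (m : G) * y = (y : G) * m := congrArg Subtype.val h
    rw [coe_autP, h', mul_inv_cancel_right]
    rfl
  have h1 : ¬ p ∣ Nat.card (autP P).range := by
    intro hd
    rw [← Subgroup.index_ker] at hd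
    refine (P.subtype Subgroup.le_normalizer).not_dvd_index ?_
    exact hd.trans (Subgroup.index_dvd_of_le hker)
  have h2 : Nat.card (autP P).range ∣ p ^ (n - 1) * (p - 1) := by
    rw [← Nat.totient_prime_pow hp.out hn, ← hPn]
    rw [← IsCyclic.card_mulAut (P : Subgroup G)]
    exact Subgroup.card_subgroup_dvd_card _
  have h3 : Nat.card (autP P).range ∣ p - 1 :=
    (Nat.Coprime.pow_right _ (hp.out.coprime_iff_not_dvd.2 h1).symm).dvd_of_dvd_mul_left h2
  exact Nat.le_of_dvd (Nat.sub_pos_of_lt hp.out.one_lt) h3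

/-- The sum of the conjugates under the cosets of an invariant endomorphism. -/
theorem exists_trace (hTI : ∀ Q : Sylow p G, Q ≠ P → (P : Subgroup G) ⊓ (Q : Subgroup G) = ⊥)
    [Fintype (P : Subgroup G)] (ρ : Representation F G V) (φ : Module.End F V)
    (hφ : ∀ m ∈ Subgroup.normalizer ((P : Subgroup G) : Set G), ρ m * φ = φ * ρ m) :
    ∃ c ψ : Module.End F V, (∀ g, ρ g * c = c * ρ g) ∧
      c = φ + ∑ y : (P : Subgroup G), ρ y * ψ * ρ (y : G)⁻¹ := by
  classical
  set N := Subgroup.normalizer ((P : Subgroup G) : Set G) with hN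
  letI : Fintype (G ⧸ N) := Fintype.ofFinite _
  have hinv : ∀ g : G, ρ g * ρ g⁻¹ = 1 := fun g => by rw [← map_mul, mul_inv_cancel, map_one]
  let f : G ⧸ N → Module.End F V := Quotient.lift (fun g => ρ g * φ * ρ g⁻¹) fun a b hab => by
    have hm : a⁻¹ * b ∈ N := QuotientGroup.leftRel_apply.1 hab
    show ρ a * φ * ρ a⁻¹ = ρ b * φ * ρ b⁻¹
    have e : ρ b = ρ a * ρ (a⁻¹ * b) := by rw [← map_mul, mul_inv_cancel_left]
    rw [e, mul_assoc (ρ a) (ρ (a⁻¹ * b)), hφ _ hm, mul_assoc (ρ a), mul_assoc (ρ a) (φ * _),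
      mul_assoc φ, ← map_mul, mul_assoc a⁻¹, mul_inv_cancel, mul_one]
  have hf : ∀ g : G, f (g : G ⧸ N) = ρ g * φ * ρ g⁻¹ := fun _ => rfl
  have hsmul : ∀ (g : G) (q : G ⧸ N), f (g • q) = ρ g * f q * ρ g⁻¹ := by
    intro g q
    induction q using QuotientGroup.induction_on with
    | _ a =>
      rw [MulAction.Quotient.smul_coe, smul_eq_mul, hf, hf, mul_inv_rev, map_mul, map_mul]
      simp only [mul_assoc]
  have hbase : ∀ y : (P : Subgroup G), (y : G) • ((1 : G) : G ⧸ N) = ((1 : G) : G ⧸ N) := by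
    intro y
    rw [MulAction.Quotient.smul_coe, smul_eq_mul, mul_one, QuotientGroup.eq, mul_one]
    exact inv_mem (Subgroup.le_normalizer y.2)
  let α := {q : G ⧸ N // q ≠ ((1 : G) : G ⧸ N)}
  letI : MulAction (P : Subgroup G) α :=
    { smul := fun y q => ⟨(y : G) • q.1, fun h => q.2 (smul_left_cancel (y : G)
        (h.trans (hbase y).symm))⟩
      one_smul := fun q => Subtype.ext (one_smul G q.1)
      mul_smul := fun a b q => Subtype.ext (mul_smul (a : G) (b : G) q.1) }
  have hfree : ∀ (y : (P : Subgroup G)) (q : α), y • q = q → y = 1 := by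
    rintro y ⟨q, hq⟩ hy
    have hy' : (y : G) • q = q := congrArg Subtype.val hy
    induction q using QuotientGroup.induction_on with
    | _ a =>
      rw [MulAction.Quotient.smul_coe, smul_eq_mul, QuotientGroup.eq] at hy'
      have haN : a ∉ N := fun ha => hq (by rw [QuotientGroup.eq, mul_one]; exact inv_mem ha)
      have h1 : a⁻¹ * (y : G) * a ∈ N := by
        have := inv_mem hy'
        simp only [mul_inv_rev, inv_inv] at this
        have h2 := inv_mem this
        simp only [mul_inv_rev, inv_inv] at h2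
        have h3 := inv_mem h2
        simpa [mul_assoc] using h3
      have hQ : a • P ≠ P := fun h => haN (Sylow.smul_eq_iff_mem_normalizer.1 h)
      have hz : IsPGroup p (Subgroup.zpowers (a⁻¹ * (y : G) * a)) := by
        intro t
        obtain ⟨k, hk⟩ := P.2 y
        refine ⟨k, Subtype.ext ?_⟩
        obtain ⟨i, hi⟩ := Subgroup.mem_zpowers_iff.1 t.2
        rw [Subgroup.coe_pow, ← hi, ← zpow_natCast, ← zpow_mul, mul_comm, zpow_mul, zpow_natCast,
          show a⁻¹ * (y : G) * a = MulAut.conj a⁻¹ (y : G) by simp, ← map_pow, ← Subgroup.coe_pow,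
          hk, Subgroup.coe_one, map_one, one_zpow, Subgroup.coe_one]
      have h4 : a⁻¹ * (y : G) * a ∈ (P : Subgroup G) := by
        have h := hz.inf_normalizer_sylow P
        have hm : a⁻¹ * (y : G) * a ∈ Subgroup.zpowers (a⁻¹ * (y : G) * a) ⊓ N :=
          ⟨Subgroup.mem_zpowers _, h1⟩
        exact (h.le hm).2
      have h5 : (y : G) ∈ ((a • P : Sylow p G) : Subgroup G) := by
        rw [Sylow.coe_subgroup_smul]
        refine ⟨a⁻¹ * (y : G) * a, h4, ?_⟩
        show a * (a⁻¹ * (y : G) * a) * a⁻¹ = (y : G)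
        group
      have h6 : (y : G) ∈ (P : Subgroup G) ⊓ ((a • P : Sylow p G) : Subgroup G) := ⟨y.2, h5⟩
      rw [hTI _ hQ, Subgroup.mem_bot] at h6
      exact Subtype.ext h6
  let T : ↥(P : Subgroup G) → Module.End F V →+ Module.End F V := fun y =>
    (AddMonoidHom.mulRight (ρ (y : G)⁻¹)).comp (AddMonoidHom.mulLeft (ρ y))
  obtain ⟨ψ, hψ⟩ := exists_sum_translate hfree T (fun q : α => f q.1)
    (fun y q => hsmul (y : G) q.1)
  refine ⟨∑ q, f q, ψ, fun g => ?_, ?_⟩
  · rw [mul_sum, sum_mul]
    rw [← (MulAction.bijective g : Function.Bijective fun q : G ⧸ N => g • q).sum_comp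
      (fun q => f q * ρ g)]
    refine sum_congr rfl fun q _ => ?_
    rw [hsmul, mul_assoc _ (ρ g⁻¹), ← map_mul ρ g⁻¹, inv_mul_cancel, map_one, mul_one]
  · rw [← add_sum_erase _ _ (mem_univ ((1 : G) : G ⧸ N)), hf, map_one, inv_one, map_one, one_mul,
      mul_one]
    congr 1
    have h := (sum_subtype (univ.erase ((1 : G) : G ⧸ N)) (fun q => by simp) f).trans hψ
    exact h

/-- A nilpotent endomorphism commuting with an irreducible representation vanishes. -/
theorem eq_zero_of_isNilpotent (ρ : Representation F G V) (hirr : ρ.IsIrreducible)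
    (c : Module.End F V) (hc : ∀ g, ρ g * c = c * ρ g) (hnil : IsNilpotent c) : c = 0 := by
  let W : Subrepresentation ρ := ⟨LinearMap.ker c, fun g v hv => by
    rw [LinearMap.mem_ker] at hv ⊢
    have h := DFunLike.congr_fun (hc g) v
    simp only [Module.End.mul_apply, hv, map_zero] at h
    exact h.symm⟩
  haveI : IsSimpleOrder (Subrepresentation ρ) := hirr
  rcases IsSimpleOrder.eq_bot_or_eq_top W with h | h
  · have hker : LinearMap.ker c = ⊥ := congrArg Subrepresentation.toSubmodule h
    have hinj : Function.Injective c := LinearMap.ker_eq_bot.1 hker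
    obtain ⟨k, hk⟩ := hnil
    refine LinearMap.ext fun v => ?_
    have hv : (c ^ k) v = (c ^ k) 0 := by simp [hk]
    rw [Module.End.coe_pow] at hv
    rw [hinj.iterate k hv, map_zero, map_zero]
  · exact LinearMap.ker_eq_top.1 (congrArg Subrepresentation.toSubmodule h)

theorem exists_unit_factor {R : Type w} [CommRing R] [Algebra F R] (x : R)
    (hnil : IsNilpotent (x - 1)) {a : ℕ} (ha : ¬ p ∣ a) :
    ∃ g : R, IsUnit g ∧ x ^ a - 1 = (x - 1) * g := by
  refine ⟨∑ i ∈ range a, x ^ i, ?_, (mul_geom_sum x a).symm⟩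
  have e : (∑ i ∈ range a, x ^ i) =
      algebraMap F R (a : F) + (x - 1) * (∑ i ∈ range a, ∑ j ∈ range i, x ^ j) := by
    rw [map_natCast, mul_sum]
    simp only [mul_geom_sum, sum_sub_distrib, sum_const, card_range, nsmul_one]
    ring
  rw [e]
  refine IsNilpotent.isUnit_add_left_of_commute ?_
    ((IsUnit.mk0 _ fun h => ha ((CharP.cast_eq_zero_iff F p a).1 h)).map _) (Commute.all _ _)
  obtain ⟨k, hk⟩ := hnil
  exact ⟨k, by rw [mul_pow, hk, zero_mul]⟩

theorem pow_finrank_eq_zero [FiniteDimensional F V] {φ : Module.End F V} (h : IsNilpotent φ) :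
    φ ^ Module.finrank F V = 0 := by
  have h1 := LinearMap.aeval_self_charpoly φ
  rw [IsNilpotent.charpoly_eq_X_pow_finrank h] at h1
  simpa using h1

set_option maxHeartbeats 1600000 in
/-- **The bound.** -/
theorem dim_bound [FiniteDimensional F V] (hcyc : IsCyclic P) {n : ℕ} (hn : 2 ≤ n)
    (hPn : Nat.card P = p ^ n)
    (hTI : ∀ Q : Sylow p G, Q ≠ P → (P : Subgroup G) ⊓ (Q : Subgroup G) = ⊥)
    (ρ : Representation F G V) (hfaith : Function.Injective ρ) (hirr : ρ.IsIrreducible) :
    p ^ n - (p - 1) ≤ Module.finrank F V := by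
  classical
  by_contra hlt
  haveI : IsCyclic (P : Subgroup G) := hcyc
  letI : CommGroup (P : Subgroup G) := IsCyclic.commGroup
  letI : Fintype (P : Subgroup G) := Fintype.ofFinite _
  obtain ⟨z, hz⟩ := IsCyclic.exists_generator (α := (P : Subgroup G))
  have hzord : orderOf z = p ^ n := (orderOf_eq_card_of_forall_mem_zpowers hz).trans hPn
  set N := Subgroup.normalizer ((P : Subgroup G) : Set G)
  letI : Fintype N := Fintype.ofFinite _
  set S : Finset (P : Subgroup G) := univ.image fun m : N => autP P m z with hS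
  have hScard : S.card ≤ p - 1 := by
    refine le_trans ?_ (card_conj_le P hcyc (by omega) hPn)
    letI : Fintype (autP P).range := Fintype.ofFinite _
    rw [Nat.card_eq_fintype_card, ← card_univ]
    refine (card_le_card (t := univ.image fun a : (autP P).range => (a : MulAut (P : Subgroup G)) z)
      fun y hy => ?_).trans card_image_le
    obtain ⟨m, -, rfl⟩ := mem_image.1 hy
    exact mem_image.2 ⟨⟨autP P m, m, rfl⟩, mem_univ _, rfl⟩
  let of' : (P : Subgroup G) →* MonoidAlgebra F (P : Subgroup G) := MonoidAlgebra.of F _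
  haveI : CharP (MonoidAlgebra F (P : Subgroup G)) p :=
    charP_of_injective_algebraMap (algebraMap F (MonoidAlgebra F (P : Subgroup G))).injective p
  set Z := of' z - 1 with hZ
  have hZnil : IsNilpotent Z := ⟨p ^ n, by
    rw [hZ, sub_pow_char_pow, one_pow, ← map_pow, ← hzord, pow_orderOf_eq_one, map_one, sub_self]⟩
  -- each conjugate differs from the generator by a unit
  have hfactor : ∀ s ∈ S, ∃ g : MonoidAlgebra F (P : Subgroup G),
      IsUnit g ∧ of' s - 1 = Z * g := by
    intro s hs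
    obtain ⟨m, -, rfl⟩ := mem_image.1 hs
    obtain ⟨a, ha⟩ := mem_powers_iff_mem_zpowers.2 (hz (autP P m z))
    have ha : z ^ a = autP P m z := ha
    have hpa : ¬ p ∣ a := by
      rintro ⟨b, rfl⟩
      have h1 : (autP P m z) ^ (p ^ (n - 1)) = 1 := by
        rw [← ha, ← pow_mul, show p * b * p ^ (n - 1) = p ^ (n - 1 + 1) * b by ring,
          show n - 1 + 1 = n by omega, pow_mul, ← hzord, pow_orderOf_eq_one, one_pow]
      have h2 := orderOf_dvd_of_pow_eq_one h1
      rw [MulEquiv.orderOf_eq, hzord, Nat.pow_dvd_pow_iff_le_right hp.out.one_lt] at h2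
      omega
    obtain ⟨g, hgu, hg⟩ := exists_unit_factor (F := F) (p := p) (of' z) hZnil hpa
    exact ⟨g, hgu, by rw [← ha, map_pow]; exact hg⟩
  choose! g hgu hgs using hfactor
  set Y := ∏ s ∈ S, (of' s - 1) with hY
  set U := ∏ s ∈ S, g s with hU
  have hUu : IsUnit U := IsUnit.prod_iff.2 hgu
  have hYU : Y = Z ^ S.card * U := by
    rw [hY, prod_congr rfl hgs, prod_mul_distrib, prod_const]
  let π : MonoidAlgebra F (P : Subgroup G) →ₐ[F] Module.End F V :=
    MonoidAlgebra.lift F (Module.End F V) (P : Subgroup G) (ρ.comp (P : Subgroup G).subtype)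
  have hπ : ∀ y : (P : Subgroup G), π (of' y) = ρ y := fun y => by
    simp only [π, of', MonoidAlgebra.lift_of]
    rfl
  set φ := π Y with hφ
  have hφN : ∀ m ∈ N, ρ m * φ = φ * ρ m := by
    intro m hm
    let cm : MonoidAlgebra F (P : Subgroup G) →ₐ[F] MonoidAlgebra F (P : Subgroup G) :=
      MonoidAlgebra.lift F (MonoidAlgebra F (P : Subgroup G)) (P : Subgroup G)
        (of'.comp (autP P ⟨m, hm⟩).toMonoidHom)
    have hcm : ∀ y, cm (of' y) = of' (autP P ⟨m, hm⟩ y) := fun y => by
      simp only [cm, of', MonoidAlgebra.lift_of]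
      rfl
    have hconj : ∀ x, ρ m * π x = π (cm x) * ρ m := by
      intro x
      induction x using MonoidAlgebra.induction_on with
      | of y =>
        rw [show MonoidAlgebra.of F (P : Subgroup G) y = of' y from rfl, hcm, hπ, hπ, coe_autP,
          ← map_mul, ← map_mul, inv_mul_cancel_right]
      | add a b ha hb => rw [map_add, map_add, map_add, mul_add, add_mul, ha, hb]
      | smul r a ha => rw [map_smul, map_smul, map_smul, mul_smul_comm, smul_mul_assoc, ha]
    have hinv : cm Y = Y := by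
      rw [hY, map_prod]
      simp only [map_sub, map_one, hcm]
      refine prod_nbij (fun s => autP P ⟨m, hm⟩ s) (fun s hs => ?_)
        (fun a _ b _ h => (autP P ⟨m, hm⟩).injective h) (fun s hs => ?_) fun s _ => rfl
      · obtain ⟨k, -, rfl⟩ := mem_image.1 hs
        exact mem_image.2 ⟨⟨m, hm⟩ * k, mem_univ _, by rw [map_mul]; rfl⟩
      · obtain ⟨k, -, rfl⟩ := mem_image.1 hs
        refine ⟨autP P (⟨m, hm⟩⁻¹ * k) z, mem_image.2 ⟨_, mem_univ _, rfl⟩, ?_⟩
        show autP P ⟨m, hm⟩ (autP P (⟨m, hm⟩⁻¹ * k) z) = autP P k z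
        rw [← MulAut.mul_apply, ← map_mul, mul_inv_cancel_left]
    rw [hφ, hconj, hinv]
  obtain ⟨c, ψ, hcG, hc⟩ := exists_trace P hTI ρ φ hφN
  set M := ρ (z : G) - 1 with hM
  have hMπ : π Z = M := by rw [hZ, map_sub, map_one, hπ]
  have hMnil : IsNilpotent M := hMπ ▸ hZnil.map π
  have hM'nil : IsNilpotent (ρ (z : G)⁻¹ - 1) := by
    have h : IsNilpotent (of' z⁻¹ - 1) := ⟨p ^ n, by
      rw [sub_pow_char_pow, one_pow, ← map_pow, inv_pow, ← hzord, pow_orderOf_eq_one, inv_one,
        map_one, sub_self]⟩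
    have h' := h.map π
    rwa [map_sub, map_one, hπ] at h'
  have hsum : ∑ y : (P : Subgroup G), ρ y * ψ * ρ (y : G)⁻¹ =
      ∑ j ∈ range (p ^ n), ρ (z : G) ^ j * ψ * ρ (z : G)⁻¹ ^ j := by
    rw [← hzord, ← Fin.sum_univ_eq_sum_range (fun j => ρ (z : G) ^ j * ψ * ρ (z : G)⁻¹ ^ j)]
    refine (Fintype.sum_bijective (fun j : Fin (orderOf z) => z ^ (j : ℕ)) ?_ _ _ fun j => ?_).symm
    · refine (Nat.bijective_iff_injective_and_card _).2
        ⟨fun i j h => Fin.ext (pow_injOn_Iio_orderOf i.2 j.2 h), ?_⟩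
      rw [Nat.card_eq_fintype_card, Fintype.card_fin, hzord, hPn]
    · rw [Subgroup.coe_pow, map_pow, ← inv_pow, map_pow]
  obtain ⟨S', hS'⟩ := exists_mul_pow (F := F) (p := p) n (ρ (z : G)) (ρ (z : G)⁻¹)
    (Module.finrank F V) (pow_finrank_eq_zero hM'nil) ψ
  rw [hsum, hS', ← hM] at hc
  have hp2 := hp.out.two_le
  have hpn : p ≤ p ^ (n - 1) := Nat.le_self_pow (by omega) p
  have hr : S.card < p ^ n - Module.finrank F V := by omega
  have hφnil : IsNilpotent φ := by
    refine ((?_ : IsNilpotent Y)).map π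
    rw [hYU]
    rcases Nat.eq_zero_or_pos S.card with h0 | h0
    · exfalso
      rw [card_eq_zero] at h0
      exact notMem_empty (autP P 1 z) (h0 ▸ mem_image_of_mem _ (mem_univ _))
    · exact Commute.isNilpotent_mul_right (Commute.all _ _) (hZnil.pow_of_pos h0.ne')
  have hcφ : Commute c φ := by
    have : ∀ x, Commute c (π x) := by
      intro x
      induction x using MonoidAlgebra.induction_on with
      | of y => rw [show MonoidAlgebra.of F (P : Subgroup G) y = of' y from rfl, hπ]; exact (hcG y).symm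
      | add a b ha hb => rw [map_add]; exact ha.add_right hb
      | smul r a ha => rw [map_smul]; exact ha.smul_right r
    exact this Y
  have hT : M ^ (p ^ n - Module.finrank F V) * S' = c - φ := by rw [hc]; abel
  have hφM : Commute φ M := hMπ ▸ (Commute.all Y Z).map π
  have hcM : Commute c M := (show Commute c (ρ (z : G)) from (hcG z).symm).sub_right (Commute.one_right c)
  have hTnil : IsNilpotent (c - φ) :=
    isNilpotent_of_eq_mul hMnil (by omega) (hcM.sub_left hφM) hT.symm
  have hcnil : IsNilpotent c := by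
    have h := Commute.isNilpotent_add ((hcφ.sub_left (Commute.refl φ))) hTnil hφnil
    rwa [sub_add_cancel] at h
  have hc0 := eq_zero_of_isNilpotent ρ hirr c hcG hcnil
  rw [hc0, zero_sub] at hT
  obtain ⟨u, hu⟩ := hUu.map π
  have hzero : M ^ S.card = 0 := by
    refine pow_eq_zero_of_eq_mul hMnil hr (S := -(S' * ↑u⁻¹)) ?_
    rw [mul_neg, ← mul_assoc, hT, hφ, hYU, map_mul, map_pow, hMπ, ← hu, neg_mul, neg_neg,
      Units.mul_inv_cancel_right]
  have hzero' : M ^ p ^ (n - 1) = 0 := pow_eq_zero_of_le (by omega) hzero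
  have h1 : ρ (z : G) ^ p ^ (n - 1) = 1 := by
    have h := congrArg π (show Z ^ p ^ (n - 1) = of' (z ^ p ^ (n - 1)) - 1 by
      rw [hZ, sub_pow_char_pow, one_pow, map_pow])
    rw [map_pow, hMπ, hzero', map_sub, map_one, hπ, Subgroup.coe_pow, map_pow] at h
    exact sub_eq_zero.1 h.symm
  have h2 : z ^ p ^ (n - 1) = 1 := Subtype.ext (hfaith (by
    rw [Subgroup.coe_pow, map_pow, h1, Subgroup.coe_one, map_one]))
  have h3 := orderOf_dvd_of_pow_eq_one h2
  rw [hzord, Nat.pow_dvd_pow_iff_le_right hp.out.one_lt] at h3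
  omega

end CfsgLib.TIModular
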