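import Mathlib.RepresentationTheory.Irreducible
import Mathlib.GroupTheory.Sylow
import Mathlib.GroupTheory.SpecificGroups.Cyclic
import Mathlib.RingTheory.Nilpotent.Basic
import Mathlib.LinearAlgebra.Eigenspace.Zero
import Mathlib.Algebra.CharP.Algebra

/-!
# Traces over a subgroup and nilpotent endomorphisms
-/

set_option autoImplicit false
set_option linter.style.haveILetI false

noncomputable section

namespace CfsgLib.TIModular

open Finset

universe u v w

/-- A sum over a free action is a sum of translates of a single element. -/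
theorem exists_sum_translate {P : Type u} [Group P] [Fintype P] {α : Type v} [Fintype α]
    [MulAction P α] (hfree : ∀ (h : P) (a : α), h • a = a → h = 1) {A : Type w} [AddCommMonoid A]
    (T : P → A →+ A) (f : α → A) (hf : ∀ (h : P) (a : α), f (h • a) = T h (f a)) :
    ∃ ψ : A, ∑ a, f a = ∑ h : P, T h ψ := by
  classical
  letI : Fintype (MulAction.orbitRel.Quotient P α) := Fintype.ofFinite _
  refine ⟨∑ ω : MulAction.orbitRel.Quotient P α, f ω.out, ?_⟩
  have hbij : Function.Bijective
      (fun z : P × MulAction.orbitRel.Quotient P α => z.1 • z.2.out) := by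
    constructor
    · rintro ⟨h, ω⟩ ⟨h', ω'⟩ he
      have e1 : ∀ (k : P) (a : α), (Quotient.mk'' (k • a) : MulAction.orbitRel.Quotient P α) =
          Quotient.mk'' a := fun k a => Quotient.sound' ⟨k, rfl⟩
      have hω : ω = ω' := by
        have h1 := congrArg (fun a => (Quotient.mk'' a : MulAction.orbitRel.Quotient P α)) he
        simp only [e1, Quotient.out_eq'] at h1
        exact h1
      subst hω
      have h2 : (h'⁻¹ * h) • ω.out = ω.out := by
        rw [mul_smul, inv_smul_eq_iff]
        exact he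
      exact Prod.ext (inv_mul_eq_one.1 (hfree _ _ h2)).symm rfl
    · intro a
      obtain ⟨h, hh⟩ := Quotient.exact' (Quotient.out_eq'
        (Quotient.mk'' a : MulAction.orbitRel.Quotient P α))
      refine ⟨(h⁻¹, Quotient.mk'' a), ?_⟩
      show h⁻¹ • (Quotient.mk'' a : MulAction.orbitRel.Quotient P α).out = a
      rw [← hh]
      exact inv_smul_smul _ _
  rw [← hbij.sum_comp, Fintype.sum_prod_type]
  simp only [hf, map_sum]

/-- A geometric sum is a power in prime characteristic. -/
theorem geom_sum_eq_pow {F : Type u} [Field F] {p : ℕ} [Fact p.Prime] [CharP F p] {A : Type v}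
    [Ring A] [Algebra F A] (n : ℕ) (W : A) :
    ∑ j ∈ range (p ^ n), W ^ j = (W - 1) ^ (p ^ n - 1) := by
  have hpos : 0 < p ^ n := pow_pos (Fact.out : p.Prime).pos n
  have h : (∑ j ∈ range (p ^ n), (Polynomial.X : Polynomial F) ^ j) =
      (Polynomial.X - 1) ^ (p ^ n - 1) := by
    have hX : (Polynomial.X - 1 : Polynomial F) ≠ 0 := by
      simpa using Polynomial.X_sub_C_ne_zero (1 : F)
    refine mul_right_cancel₀ hX ?_
    rw [geom_sum_mul, ← pow_succ, Nat.sub_add_cancel hpos, sub_pow_char_pow, one_pow]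
  have h' := congrArg (Polynomial.aeval W) h
  simpa using h'

/-- The trace over a cyclic `p`-group factors through a power of the nilpotent part. -/
theorem exists_mul_pow {F : Type u} [Field F] {p : ℕ} [Fact p.Prime] [CharP F p] {A : Type v}
    [Ring A] [Algebra F A] (n : ℕ) (a b : A) (d : ℕ) (hd : (b - 1) ^ d = 0) (ψ : A) :
    ∃ S : A, ∑ j ∈ range (p ^ n), a ^ j * ψ * b ^ j = (a - 1) ^ (p ^ n - d) * S := by
  set L := LinearMap.mulLeft F a with hL
  set R := LinearMap.mulRight F b with hR
  have hLR : Commute L R := LinearMap.commute_mulLeft_right a b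
  have h1 : ∑ j ∈ range (p ^ n), a ^ j * ψ * b ^ j =
      (∑ j ∈ range (p ^ n), (L * R) ^ j) ψ := by
    rw [LinearMap.sum_apply]
    refine sum_congr rfl fun j _ => ?_
    rw [hLR.mul_pow, hL, hR, LinearMap.pow_mulLeft, LinearMap.pow_mulRight]
    simp [mul_assoc]
  rw [h1, geom_sum_eq_pow (F := F) (p := p), show L * R - 1 = (L - 1) + L * (R - 1) by rw [mul_sub, mul_one]; abel]
  have hc : Commute (L - 1) (L * (R - 1)) :=
    Commute.mul_right ((Commute.refl L).sub_left (Commute.one_left L))
      ((hLR.sub_right (Commute.one_right L)).sub_left ((Commute.one_left _).sub_right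
        (Commute.one_left 1)))
  rw [hc.add_pow, LinearMap.sum_apply]
  have hterm : ∀ m ∈ range (p ^ n - 1 + 1), ∃ S : A,
      ((L - 1) ^ m * (L * (R - 1)) ^ (p ^ n - 1 - m) * ((p ^ n - 1).choose m : Module.End F A)) ψ =
        (a - 1) ^ (p ^ n - d) * S := by
    intro m hm
    rw [mem_range] at hm
    by_cases hk : d ≤ p ^ n - 1 - m
    · refine ⟨0, ?_⟩
      have hR0 : (R - 1) ^ d = 0 := by
        have e : R - 1 = LinearMap.mulRight F (b - 1) := by
          refine LinearMap.ext fun x => ?_
          simp [hR, mul_sub]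
        rw [e, LinearMap.pow_mulRight, hd]
        exact LinearMap.ext fun x => by simp
      rw [((hLR.sub_right (Commute.one_right L))).mul_pow, pow_eq_zero_of_le hk hR0]
      simp
    · have e : L - 1 = LinearMap.mulLeft F (a - 1) := by
        refine LinearMap.ext fun x => ?_
        simp [hL, sub_mul]
      refine ⟨(a - 1) ^ (m - (p ^ n - d)) *
        ((L * (R - 1)) ^ (p ^ n - 1 - m) * ((p ^ n - 1).choose m : Module.End F A)) ψ, ?_⟩
      rw [mul_assoc, Module.End.mul_apply, e, LinearMap.pow_mulLeft, LinearMap.mulLeft_apply,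
        ← mul_assoc, ← pow_add]
      congr 2
      omega
  choose S hS using hterm
  refine ⟨∑ m ∈ (range (p ^ n - 1 + 1)).attach, S m.1 m.2, ?_⟩
  rw [mul_sum, ← sum_attach]
  exact sum_congr rfl fun m _ => hS m.1 m.2

/-- An element commuting with `N` and divisible by it on the left is nilpotent. -/
theorem isNilpotent_of_eq_mul {A : Type v} [Ring A] {N T S : A} (hN : IsNilpotent N) {r : ℕ}
    (hr : 0 < r) (hTN : Commute T N) (hT : T = N ^ r * S) : IsNilpotent T := by
  obtain ⟨d, hd⟩ := hN
  have h : ∀ m : ℕ, ∃ S' : A, T ^ m = N ^ (r * m) * S' := by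
    intro m
    induction m with
    | zero => exact ⟨1, by simp⟩
    | succ m ih =>
      obtain ⟨S', hS'⟩ := ih
      refine ⟨S * S', ?_⟩
      rw [pow_succ', hS', ← mul_assoc, (hTN.pow_right _).eq, mul_assoc, hT, ← mul_assoc,
        ← mul_assoc, ← pow_add, mul_assoc, mul_add, mul_one]
  obtain ⟨S', hS'⟩ := h d
  exact ⟨d, by rw [hS', pow_eq_zero_of_le (Nat.le_mul_of_pos_left d hr) hd, zero_mul]⟩

/-- A power divisible by a higher power vanishes. -/
theorem pow_eq_zero_of_eq_mul {A : Type v} [Ring A] {N S : A} (hN : IsNilpotent N) {e r : ℕ}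
    (her : e < r) (h : N ^ e = N ^ r * S) : N ^ e = 0 := by
  obtain ⟨d, hd⟩ := hN
  have h' : ∀ m : ℕ, ∃ S' : A, N ^ e = N ^ (e + m * (r - e)) * S' := by
    intro m
    induction m with
    | zero => exact ⟨1, by simp⟩
    | succ m ih =>
      obtain ⟨S', hS'⟩ := ih
      refine ⟨S * S', ?_⟩
      rw [hS', show e + m * (r - e) = m * (r - e) + e by ring, pow_add, h]
      rw [← mul_assoc, ← pow_add, mul_assoc]
      congr 2
      rw [add_mul, one_mul]
      omega
  obtain ⟨S', hS'⟩ := h' d
  rw [hS', pow_eq_zero_of_le ((Nat.le_mul_of_pos_right d (by omega)).trans (Nat.le_add_left _ _)) hd,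
    zero_mul]

end CfsgLib.TIModular
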